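import Mathlib
import Cfsg.Agent.Lib.Helper56.TC
import Cfsg.Agent.Lib.Helper28.HeMult.L0.C0
import Cfsg.Agent.Lib.Helper28.HeMult.L0.C1
import Cfsg.Agent.Lib.Helper28.HeMult.L0.C2
import Cfsg.Agent.Lib.Helper28.HeMult.L0.C3
import Cfsg.Agent.Lib.Helper28.HeMult.L0.C4
import Cfsg.Agent.Lib.Helper28.HeMult.L0.C5
import Cfsg.Agent.Lib.Helper28.HeMult.L0.C6
import Cfsg.Agent.Lib.Helper28.HeMult.L0.C7
import Cfsg.Agent.Lib.Helper28.HeMult.L0.C8
import Cfsg.Agent.Lib.Helper28.HeMult.L0.C9
import Cfsg.Agent.Lib.Helper28.HeMult.L0.C10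
import Cfsg.Agent.Lib.Helper28.HeMult.L0.C11
import Cfsg.Agent.Lib.Helper28.HeMult.L0.C12
import Cfsg.Agent.Lib.Helper28.HeMult.L0.C13
import Cfsg.Agent.Lib.Helper28.HeMult.L0.C14
import Cfsg.Agent.Lib.Helper28.HeMult.L0.C15
import Cfsg.Agent.Lib.Helper28.HeMult.L0.C16
import Cfsg.Agent.Lib.Helper28.HeMult.L0.C17
import Cfsg.Agent.Lib.Helper28.HeMult.L0.C18
import Cfsg.Agent.Lib.Helper28.HeMult.L0.C19
import Cfsg.Agent.Lib.Helper28.HeMult.L0.C20
import Cfsg.Agent.Lib.Helper28.HeMult.L0.C21
import Cfsg.Agent.Lib.Helper28.HeMult.L0.C22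
import Cfsg.Agent.Lib.Helper28.HeMult.L0.C23
set_option autoImplicit false
set_option maxRecDepth 1000000

namespace Cfsg.Agent.Lib.Helper28.HeMult.L0

open Cfsg.Agent.Lib.Helper56.TC Cfsg.Agent.Lib.Helper56.TC.Tabs
open Cfsg.Agent.Lib.Helper28.CovL

theorem uN_398 : Upto T.chkName 398 := upto_add (upto_zero T.chkName) rfl cN_0
theorem uN_788 : Upto T.chkName 788 := upto_add uN_398 rfl cN_398
theorem uN_1178 : Upto T.chkName 1178 := upto_add uN_788 rfl cN_788
theorem uN_1569 : Upto T.chkName 1569 := upto_add uN_1178 rfl cN_1178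
theorem uN_1952 : Upto T.chkName 1952 := upto_add uN_1569 rfl cN_1569
theorem uN_2340 : Upto T.chkName 2340 := upto_add uN_1952 rfl cN_1952
theorem uN_2722 : Upto T.chkName 2722 := upto_add uN_2340 rfl cN_2340
theorem uN_3113 : Upto T.chkName 3113 := upto_add uN_2722 rfl cN_2722
theorem uN_3503 : Upto T.chkName 3503 := upto_add uN_3113 rfl cN_3113
theorem uN_3893 : Upto T.chkName 3893 := upto_add uN_3503 rfl cN_3503
theorem uN_4324 : Upto T.chkName 4324 := upto_add uN_3893 rfl cN_3893
theorem uN_4837 : Upto T.chkName 4837 := upto_add uN_4324 rfl cN_4324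
theorem uN_5383 : Upto T.chkName 5383 := upto_add uN_4837 rfl cN_4837
theorem uN_5918 : Upto T.chkName 5918 := upto_add uN_5383 rfl cN_5383
theorem uN_6478 : Upto T.chkName 6478 := upto_add uN_5918 rfl cN_5918
theorem uN_7020 : Upto T.chkName 7020 := upto_add uN_6478 rfl cN_6478
theorem uN_7564 : Upto T.chkName 7564 := upto_add uN_7020 rfl cN_7020
theorem uN_8127 : Upto T.chkName 8127 := upto_add uN_7564 rfl cN_7564
theorem uN_8693 : Upto T.chkName 8693 := upto_add uN_8127 rfl cN_8127
theorem uN_9258 : Upto T.chkName 9258 := upto_add uN_8693 rfl cN_8693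
theorem uN_9822 : Upto T.chkName 9822 := upto_add uN_9258 rfl cN_9258
theorem uN_10357 : Upto T.chkName 10357 := upto_add uN_9822 rfl cN_9822
theorem uN_10906 : Upto T.chkName 10906 := upto_add uN_10357 rfl cN_10357
theorem uN_11452 : Upto T.chkName 11452 := upto_add uN_10906 rfl cN_10906
theorem uN_11994 : Upto T.chkName 11994 := upto_add uN_11452 rfl cN_11452
theorem uN_12544 : Upto T.chkName 12544 := upto_add uN_11994 rfl cN_11994
theorem uN_13092 : Upto T.chkName 13092 := upto_add uN_12544 rfl cN_12544
theorem uN_13644 : Upto T.chkName 13644 := upto_add uN_13092 rfl cN_13092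
theorem uN_14211 : Upto T.chkName 14211 := upto_add uN_13644 rfl cN_13644
theorem uN_14763 : Upto T.chkName 14763 := upto_add uN_14211 rfl cN_14211
theorem uN_15316 : Upto T.chkName 15316 := upto_add uN_14763 rfl cN_14763
theorem uN_15862 : Upto T.chkName 15862 := upto_add uN_15316 rfl cN_15316
theorem uN_16418 : Upto T.chkName 16418 := upto_add uN_15862 rfl cN_15862
theorem uN_16966 : Upto T.chkName 16966 := upto_add uN_16418 rfl cN_16418
theorem uN_17520 : Upto T.chkName 17520 := upto_add uN_16966 rfl cN_16966
theorem uN_18085 : Upto T.chkName 18085 := upto_add uN_17520 rfl cN_17520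
theorem uN_18636 : Upto T.chkName 18636 := upto_add uN_18085 rfl cN_18085
theorem uN_19195 : Upto T.chkName 19195 := upto_add uN_18636 rfl cN_18636
theorem uN_19762 : Upto T.chkName 19762 := upto_add uN_19195 rfl cN_19195
theorem uN_20328 : Upto T.chkName 20328 := upto_add uN_19762 rfl cN_19762
theorem uN_20883 : Upto T.chkName 20883 := upto_add uN_20328 rfl cN_20328
theorem uN_21444 : Upto T.chkName 21444 := upto_add uN_20883 rfl cN_20883
theorem uN_21998 : Upto T.chkName 21998 := upto_add uN_21444 rfl cN_21444
theorem uN_22554 : Upto T.chkName 22554 := upto_add uN_21998 rfl cN_21998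
theorem uN_23113 : Upto T.chkName 23113 := upto_add uN_22554 rfl cN_22554
theorem uN_23670 : Upto T.chkName 23670 := upto_add uN_23113 rfl cN_23113
theorem uN_24237 : Upto T.chkName 24237 := upto_add uN_23670 rfl cN_23670
theorem uN_24805 : Upto T.chkName 24805 := upto_add uN_24237 rfl cN_24237
theorem uN_25374 : Upto T.chkName 25374 := upto_add uN_24805 rfl cN_24805
theorem uN_25945 : Upto T.chkName 25945 := upto_add uN_25374 rfl cN_25374
theorem uN_26515 : Upto T.chkName 26515 := upto_add uN_25945 rfl cN_25945
theorem uN_27088 : Upto T.chkName 27088 := upto_add uN_26515 rfl cN_26515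
theorem uN_27662 : Upto T.chkName 27662 := upto_add uN_27088 rfl cN_27088
theorem uN_28238 : Upto T.chkName 28238 := upto_add uN_27662 rfl cN_27662
theorem uN_28817 : Upto T.chkName 28817 := upto_add uN_28238 rfl cN_28238
theorem uN_29392 : Upto T.chkName 29392 := upto_add uN_28817 rfl cN_28817
theorem uN_29971 : Upto T.chkName 29971 := upto_add uN_29392 rfl cN_29392
theorem uN_30544 : Upto T.chkName 30544 := upto_add uN_29971 rfl cN_29971
theorem uN_31118 : Upto T.chkName 31118 := upto_add uN_30544 rfl cN_30544
theorem uN_31691 : Upto T.chkName 31691 := upto_add uN_31118 rfl cN_31118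
theorem uN_32264 : Upto T.chkName 32264 := upto_add uN_31691 rfl cN_31691
theorem uN_32838 : Upto T.chkName 32838 := upto_add uN_32264 rfl cN_32264
theorem uN_33410 : Upto T.chkName 33410 := upto_add uN_32838 rfl cN_32838
theorem uN_33983 : Upto T.chkName 33983 := upto_add uN_33410 rfl cN_33410
theorem uN_34554 : Upto T.chkName 34554 := upto_add uN_33983 rfl cN_33983
theorem uN_35127 : Upto T.chkName 35127 := upto_add uN_34554 rfl cN_34554
theorem uN_35700 : Upto T.chkName 35700 := upto_add uN_35127 rfl cN_35127
theorem uN_36266 : Upto T.chkName 36266 := upto_add uN_35700 rfl cN_35700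
theorem uN_36837 : Upto T.chkName 36837 := upto_add uN_36266 rfl cN_36266
theorem uN_37404 : Upto T.chkName 37404 := upto_add uN_36837 rfl cN_36837
theorem uN_37970 : Upto T.chkName 37970 := upto_add uN_37404 rfl cN_37404
theorem uN_38545 : Upto T.chkName 38545 := upto_add uN_37970 rfl cN_37970
theorem uN_39117 : Upto T.chkName 39117 := upto_add uN_38545 rfl cN_38545
theorem uN_39694 : Upto T.chkName 39694 := upto_add uN_39117 rfl cN_39117
theorem uN_40267 : Upto T.chkName 40267 := upto_add uN_39694 rfl cN_39694
theorem uN_40831 : Upto T.chkName 40831 := upto_add uN_40267 rfl cN_40267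
theorem uN_41400 : Upto T.chkName 41400 := upto_add uN_40831 rfl cN_40831
theorem uN_41970 : Upto T.chkName 41970 := upto_add uN_41400 rfl cN_41400
theorem uN_42536 : Upto T.chkName 42536 := upto_add uN_41970 rfl cN_41970
theorem uN_43101 : Upto T.chkName 43101 := upto_add uN_42536 rfl cN_42536
theorem uN_43669 : Upto T.chkName 43669 := upto_add uN_43101 rfl cN_43101
theorem uN_44235 : Upto T.chkName 44235 := upto_add uN_43669 rfl cN_43669
theorem uN_44810 : Upto T.chkName 44810 := upto_add uN_44235 rfl cN_44235
theorem uN_45376 : Upto T.chkName 45376 := upto_add uN_44810 rfl cN_44810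
theorem uN_45942 : Upto T.chkName 45942 := upto_add uN_45376 rfl cN_45376
theorem uN_46508 : Upto T.chkName 46508 := upto_add uN_45942 rfl cN_45942
theorem uN_47077 : Upto T.chkName 47077 := upto_add uN_46508 rfl cN_46508
theorem uN_47647 : Upto T.chkName 47647 := upto_add uN_47077 rfl cN_47077
theorem uN_48210 : Upto T.chkName 48210 := upto_add uN_47647 rfl cN_47647
theorem uN_48783 : Upto T.chkName 48783 := upto_add uN_48210 rfl cN_48210
theorem uN_49347 : Upto T.chkName 49347 := upto_add uN_48783 rfl cN_48783
theorem uN_49920 : Upto T.chkName 49920 := upto_add uN_49347 rfl cN_49347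
theorem uN_50493 : Upto T.chkName 50493 := upto_add uN_49920 rfl cN_49920
theorem uN_51061 : Upto T.chkName 51061 := upto_add uN_50493 rfl cN_50493
theorem uN_51630 : Upto T.chkName 51630 := upto_add uN_51061 rfl cN_51061
theorem uN_52201 : Upto T.chkName 52201 := upto_add uN_51630 rfl cN_51630
theorem uN_52767 : Upto T.chkName 52767 := upto_add uN_52201 rfl cN_52201
theorem uN_53329 : Upto T.chkName 53329 := upto_add uN_52767 rfl cN_52767
theorem uN_53905 : Upto T.chkName 53905 := upto_add uN_53329 rfl cN_53329
theorem uN_54489 : Upto T.chkName 54489 := upto_add uN_53905 rfl cN_53905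
theorem uN_55072 : Upto T.chkName 55072 := upto_add uN_54489 rfl cN_54489
theorem uN_55654 : Upto T.chkName 55654 := upto_add uN_55072 rfl cN_55072
theorem uN_56235 : Upto T.chkName 56235 := upto_add uN_55654 rfl cN_55654
theorem uN_56812 : Upto T.chkName 56812 := upto_add uN_56235 rfl cN_56235
theorem uN_57386 : Upto T.chkName 57386 := upto_add uN_56812 rfl cN_56812
theorem uN_57963 : Upto T.chkName 57963 := upto_add uN_57386 rfl cN_57386
theorem uN_58535 : Upto T.chkName 58535 := upto_add uN_57963 rfl cN_57963
theorem uN_59092 : Upto T.chkName 59092 := upto_add uN_58535 rfl cN_58535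
theorem uN_59648 : Upto T.chkName 59648 := upto_add uN_59092 rfl cN_59092
theorem uN_60216 : Upto T.chkName 60216 := upto_add uN_59648 rfl cN_59648
theorem uN_60780 : Upto T.chkName 60780 := upto_add uN_60216 rfl cN_60216
theorem uN_61348 : Upto T.chkName 61348 := upto_add uN_60780 rfl cN_60780
theorem uN_61910 : Upto T.chkName 61910 := upto_add uN_61348 rfl cN_61348
theorem uN_62480 : Upto T.chkName 62480 := upto_add uN_61910 rfl cN_61910
theorem uN_63056 : Upto T.chkName 63056 := upto_add uN_62480 rfl cN_62480
theorem uN_63624 : Upto T.chkName 63624 := upto_add uN_63056 rfl cN_63056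
theorem uN_64183 : Upto T.chkName 64183 := upto_add uN_63624 rfl cN_63624
theorem uN_64743 : Upto T.chkName 64743 := upto_add uN_64183 rfl cN_64183
theorem uN_65299 : Upto T.chkName 65299 := upto_add uN_64743 rfl cN_64743
theorem uN_65864 : Upto T.chkName 65864 := upto_add uN_65299 rfl cN_65299
theorem uN_66440 : Upto T.chkName 66440 := upto_add uN_65864 rfl cN_65864
theorem uN_67007 : Upto T.chkName 67007 := upto_add uN_66440 rfl cN_66440
theorem uN_67576 : Upto T.chkName 67576 := upto_add uN_67007 rfl cN_67007
theorem uN_68150 : Upto T.chkName 68150 := upto_add uN_67576 rfl cN_67576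
theorem uN_68721 : Upto T.chkName 68721 := upto_add uN_68150 rfl cN_68150
theorem uN_69281 : Upto T.chkName 69281 := upto_add uN_68721 rfl cN_68721
theorem uN_69851 : Upto T.chkName 69851 := upto_add uN_69281 rfl cN_69281
theorem uN_70427 : Upto T.chkName 70427 := upto_add uN_69851 rfl cN_69851
theorem uN_71002 : Upto T.chkName 71002 := upto_add uN_70427 rfl cN_70427
theorem uN_71572 : Upto T.chkName 71572 := upto_add uN_71002 rfl cN_71002
theorem uN_72136 : Upto T.chkName 72136 := upto_add uN_71572 rfl cN_71572
theorem uN_72706 : Upto T.chkName 72706 := upto_add uN_72136 rfl cN_72136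
theorem uN_73274 : Upto T.chkName 73274 := upto_add uN_72706 rfl cN_72706
theorem uN_73828 : Upto T.chkName 73828 := upto_add uN_73274 rfl cN_73274
theorem uN_74396 : Upto T.chkName 74396 := upto_add uN_73828 rfl cN_73828
theorem uN_74965 : Upto T.chkName 74965 := upto_add uN_74396 rfl cN_74396
theorem uN_75534 : Upto T.chkName 75534 := upto_add uN_74965 rfl cN_74965
theorem uN_76086 : Upto T.chkName 76086 := upto_add uN_75534 rfl cN_75534
theorem uN_76637 : Upto T.chkName 76637 := upto_add uN_76086 rfl cN_76086
theorem uN_77191 : Upto T.chkName 77191 := upto_add uN_76637 rfl cN_76637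
theorem uN_77747 : Upto T.chkName 77747 := upto_add uN_77191 rfl cN_77191
theorem uN_78308 : Upto T.chkName 78308 := upto_add uN_77747 rfl cN_77747
theorem uN_78864 : Upto T.chkName 78864 := upto_add uN_78308 rfl cN_78308
theorem uN_79434 : Upto T.chkName 79434 := upto_add uN_78864 rfl cN_78864
theorem uN_80000 : Upto T.chkName 80000 := upto_add uN_79434 rfl cN_79434
theorem uN_80561 : Upto T.chkName 80561 := upto_add uN_80000 rfl cN_80000
theorem uN_81123 : Upto T.chkName 81123 := upto_add uN_80561 rfl cN_80561
theorem uN_81683 : Upto T.chkName 81683 := upto_add uN_81123 rfl cN_81123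
theorem uN_82188 : Upto T.chkName 82188 := upto_add uN_81683 rfl cN_81683
theorem uN_82701 : Upto T.chkName 82701 := upto_add uN_82188 rfl cN_82188
theorem uN_83215 : Upto T.chkName 83215 := upto_add uN_82701 rfl cN_82701
theorem uN_83698 : Upto T.chkName 83698 := upto_add uN_83215 rfl cN_83215
theorem uN_84154 : Upto T.chkName 84154 := upto_add uN_83698 rfl cN_83698
theorem uN_84625 : Upto T.chkName 84625 := upto_add uN_84154 rfl cN_84154
theorem uN_85120 : Upto T.chkName 85120 := upto_add uN_84625 rfl cN_84625
theorem uN_85628 : Upto T.chkName 85628 := upto_add uN_85120 rfl cN_85120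
theorem uN_86148 : Upto T.chkName 86148 := upto_add uN_85628 rfl cN_85628
theorem uN_86643 : Upto T.chkName 86643 := upto_add uN_86148 rfl cN_86148
theorem uN_87164 : Upto T.chkName 87164 := upto_add uN_86643 rfl cN_86643
theorem uN_87668 : Upto T.chkName 87668 := upto_add uN_87164 rfl cN_87164
theorem uN_88164 : Upto T.chkName 88164 := upto_add uN_87668 rfl cN_87668
theorem uN_88663 : Upto T.chkName 88663 := upto_add uN_88164 rfl cN_88164
theorem uN_89155 : Upto T.chkName 89155 := upto_add uN_88663 rfl cN_88663
theorem uN_89638 : Upto T.chkName 89638 := upto_add uN_89155 rfl cN_89155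
theorem uN_90151 : Upto T.chkName 90151 := upto_add uN_89638 rfl cN_89638
theorem uN_90667 : Upto T.chkName 90667 := upto_add uN_90151 rfl cN_90151
theorem uN_91173 : Upto T.chkName 91173 := upto_add uN_90667 rfl cN_90667
theorem uN_91673 : Upto T.chkName 91673 := upto_add uN_91173 rfl cN_91173
theorem uN_92152 : Upto T.chkName 92152 := upto_add uN_91673 rfl cN_91673
theorem uN_92653 : Upto T.chkName 92653 := upto_add uN_92152 rfl cN_92152
theorem uN_93169 : Upto T.chkName 93169 := upto_add uN_92653 rfl cN_92653
theorem uN_93681 : Upto T.chkName 93681 := upto_add uN_93169 rfl cN_93169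
theorem uN_94186 : Upto T.chkName 94186 := upto_add uN_93681 rfl cN_93681
theorem uN_94714 : Upto T.chkName 94714 := upto_add uN_94186 rfl cN_94186
theorem uN_95245 : Upto T.chkName 95245 := upto_add uN_94714 rfl cN_94714
theorem uN_95774 : Upto T.chkName 95774 := upto_add uN_95245 rfl cN_95245
theorem uN_96271 : Upto T.chkName 96271 := upto_add uN_95774 rfl cN_95774
theorem uN_96791 : Upto T.chkName 96791 := upto_add uN_96271 rfl cN_96271
theorem uN_97318 : Upto T.chkName 97318 := upto_add uN_96791 rfl cN_96791
theorem uN_97823 : Upto T.chkName 97823 := upto_add uN_97318 rfl cN_97318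
theorem uN_98325 : Upto T.chkName 98325 := upto_add uN_97823 rfl cN_97823
theorem uN_98828 : Upto T.chkName 98828 := upto_add uN_98325 rfl cN_98325
theorem uN_99356 : Upto T.chkName 99356 := upto_add uN_98828 rfl cN_98828
theorem uN_99894 : Upto T.chkName 99894 := upto_add uN_99356 rfl cN_99356
theorem uN_100407 : Upto T.chkName 100407 := upto_add uN_99894 rfl cN_99894
theorem uN_100925 : Upto T.chkName 100925 := upto_add uN_100407 rfl cN_100407
theorem uN_101452 : Upto T.chkName 101452 := upto_add uN_100925 rfl cN_100925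
theorem uN_101968 : Upto T.chkName 101968 := upto_add uN_101452 rfl cN_101452
theorem uN_102497 : Upto T.chkName 102497 := upto_add uN_101968 rfl cN_101968
theorem uN_103032 : Upto T.chkName 103032 := upto_add uN_102497 rfl cN_102497
theorem uN_103568 : Upto T.chkName 103568 := upto_add uN_103032 rfl cN_103032
theorem uN_104094 : Upto T.chkName 104094 := upto_add uN_103568 rfl cN_103568
theorem uN_104618 : Upto T.chkName 104618 := upto_add uN_104094 rfl cN_104094
theorem uN_105137 : Upto T.chkName 105137 := upto_add uN_104618 rfl cN_104618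
theorem uN_105641 : Upto T.chkName 105641 := upto_add uN_105137 rfl cN_105137
theorem uN_106141 : Upto T.chkName 106141 := upto_add uN_105641 rfl cN_105641
theorem uN_106650 : Upto T.chkName 106650 := upto_add uN_106141 rfl cN_106141
theorem uN_107158 : Upto T.chkName 107158 := upto_add uN_106650 rfl cN_106650
theorem uN_107658 : Upto T.chkName 107658 := upto_add uN_107158 rfl cN_107158
theorem uN_108159 : Upto T.chkName 108159 := upto_add uN_107658 rfl cN_107658
theorem uN_108683 : Upto T.chkName 108683 := upto_add uN_108159 rfl cN_108159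
theorem uN_109201 : Upto T.chkName 109201 := upto_add uN_108683 rfl cN_108683
theorem uN_109716 : Upto T.chkName 109716 := upto_add uN_109201 rfl cN_109201
theorem uN_110219 : Upto T.chkName 110219 := upto_add uN_109716 rfl cN_109716
theorem uN_110739 : Upto T.chkName 110739 := upto_add uN_110219 rfl cN_110219
theorem uN_111259 : Upto T.chkName 111259 := upto_add uN_110739 rfl cN_110739
theorem uN_111776 : Upto T.chkName 111776 := upto_add uN_111259 rfl cN_111259
theorem uN_112298 : Upto T.chkName 112298 := upto_add uN_111776 rfl cN_111776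
theorem uN_112828 : Upto T.chkName 112828 := upto_add uN_112298 rfl cN_112298
theorem uN_113339 : Upto T.chkName 113339 := upto_add uN_112828 rfl cN_112828
theorem uN_113871 : Upto T.chkName 113871 := upto_add uN_113339 rfl cN_113339
theorem uN_114400 : Upto T.chkName 114400 := upto_add uN_113871 rfl cN_113871
theorem uN_114917 : Upto T.chkName 114917 := upto_add uN_114400 rfl cN_114400
theorem uN_115431 : Upto T.chkName 115431 := upto_add uN_114917 rfl cN_114917
theorem uN_115962 : Upto T.chkName 115962 := upto_add uN_115431 rfl cN_115431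
theorem uN_116504 : Upto T.chkName 116504 := upto_add uN_115962 rfl cN_115962
theorem uN_117009 : Upto T.chkName 117009 := upto_add uN_116504 rfl cN_116504
theorem uN_117522 : Upto T.chkName 117522 := upto_add uN_117009 rfl cN_117009
theorem uN_118053 : Upto T.chkName 118053 := upto_add uN_117522 rfl cN_117522
theorem uN_118582 : Upto T.chkName 118582 := upto_add uN_118053 rfl cN_118053
theorem uN_119112 : Upto T.chkName 119112 := upto_add uN_118582 rfl cN_118582
theorem uN_119657 : Upto T.chkName 119657 := upto_add uN_119112 rfl cN_119112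
theorem uN_120202 : Upto T.chkName 120202 := upto_add uN_119657 rfl cN_119657
theorem uN_120736 : Upto T.chkName 120736 := upto_add uN_120202 rfl cN_120202
theorem uN_121223 : Upto T.chkName 121223 := upto_add uN_120736 rfl cN_120736
theorem uN_121734 : Upto T.chkName 121734 := upto_add uN_121223 rfl cN_121223
theorem uN_122255 : Upto T.chkName 122255 := upto_add uN_121734 rfl cN_121734
theorem uN_122755 : Upto T.chkName 122755 := upto_add uN_122255 rfl cN_122255
theorem uN_123274 : Upto T.chkName 123274 := upto_add uN_122755 rfl cN_122755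
theorem uN_123791 : Upto T.chkName 123791 := upto_add uN_123274 rfl cN_123274
theorem uN_124309 : Upto T.chkName 124309 := upto_add uN_123791 rfl cN_123791
theorem uN_124827 : Upto T.chkName 124827 := upto_add uN_124309 rfl cN_124309
theorem uN_125352 : Upto T.chkName 125352 := upto_add uN_124827 rfl cN_124827
theorem uN_125886 : Upto T.chkName 125886 := upto_add uN_125352 rfl cN_125352
theorem uN_126417 : Upto T.chkName 126417 := upto_add uN_125886 rfl cN_125886
theorem uN_126947 : Upto T.chkName 126947 := upto_add uN_126417 rfl cN_126417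
theorem uN_127481 : Upto T.chkName 127481 := upto_add uN_126947 rfl cN_126947
theorem uN_128011 : Upto T.chkName 128011 := upto_add uN_127481 rfl cN_127481
theorem uN_128524 : Upto T.chkName 128524 := upto_add uN_128011 rfl cN_128011
theorem uN_129052 : Upto T.chkName 129052 := upto_add uN_128524 rfl cN_128524
theorem uN_129588 : Upto T.chkName 129588 := upto_add uN_129052 rfl cN_129052
theorem uN_130118 : Upto T.chkName 130118 := upto_add uN_129588 rfl cN_129588
theorem uN_130658 : Upto T.chkName 130658 := upto_add uN_130118 rfl cN_130118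
theorem uN_131196 : Upto T.chkName 131196 := upto_add uN_130658 rfl cN_130658
theorem uN_131737 : Upto T.chkName 131737 := upto_add uN_131196 rfl cN_131196
theorem uN_132250 : Upto T.chkName 132250 := upto_add uN_131737 rfl cN_131737
theorem uN_132757 : Upto T.chkName 132757 := upto_add uN_132250 rfl cN_132250
theorem uN_133265 : Upto T.chkName 133265 := upto_add uN_132757 rfl cN_132757
theorem uN_133775 : Upto T.chkName 133775 := upto_add uN_133265 rfl cN_133265
theorem uN_134288 : Upto T.chkName 134288 := upto_add uN_133775 rfl cN_133775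
theorem uN_134804 : Upto T.chkName 134804 := upto_add uN_134288 rfl cN_134288
theorem uN_135316 : Upto T.chkName 135316 := upto_add uN_134804 rfl cN_134804
theorem uN_135831 : Upto T.chkName 135831 := upto_add uN_135316 rfl cN_135316
theorem uN_136353 : Upto T.chkName 136353 := upto_add uN_135831 rfl cN_135831
theorem uN_136872 : Upto T.chkName 136872 := upto_add uN_136353 rfl cN_136353
theorem uN_137390 : Upto T.chkName 137390 := upto_add uN_136872 rfl cN_136872
theorem uN_137915 : Upto T.chkName 137915 := upto_add uN_137390 rfl cN_137390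
theorem uN_138430 : Upto T.chkName 138430 := upto_add uN_137915 rfl cN_137915
theorem uN_138943 : Upto T.chkName 138943 := upto_add uN_138430 rfl cN_138430
theorem uN_139457 : Upto T.chkName 139457 := upto_add uN_138943 rfl cN_138943
theorem uN_139976 : Upto T.chkName 139976 := upto_add uN_139457 rfl cN_139457
theorem uN_140486 : Upto T.chkName 140486 := upto_add uN_139976 rfl cN_139976
theorem uN_140636 : Upto T.chkName 140636 := upto_add uN_140486 rfl cN_140486
theorem uF_168 : Upto T.chkFinName 168 := upto_add (upto_zero T.chkFinName) rfl cF_0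
theorem uF_336 : Upto T.chkFinName 336 := upto_add uF_168 rfl cF_168
theorem uF_504 : Upto T.chkFinName 504 := upto_add uF_336 rfl cF_336
theorem uF_672 : Upto T.chkFinName 672 := upto_add uF_504 rfl cF_504
theorem uF_840 : Upto T.chkFinName 840 := upto_add uF_672 rfl cF_672
theorem uF_1008 : Upto T.chkFinName 1008 := upto_add uF_840 rfl cF_840
theorem uF_1176 : Upto T.chkFinName 1176 := upto_add uF_1008 rfl cF_1008
theorem uF_1344 : Upto T.chkFinName 1344 := upto_add uF_1176 rfl cF_1176
theorem uF_1512 : Upto T.chkFinName 1512 := upto_add uF_1344 rfl cF_1344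
theorem uF_1680 : Upto T.chkFinName 1680 := upto_add uF_1512 rfl cF_1512
theorem uF_1848 : Upto T.chkFinName 1848 := upto_add uF_1680 rfl cF_1680
theorem uF_2016 : Upto T.chkFinName 2016 := upto_add uF_1848 rfl cF_1848
theorem uF_2184 : Upto T.chkFinName 2184 := upto_add uF_2016 rfl cF_2016
theorem uF_2352 : Upto T.chkFinName 2352 := upto_add uF_2184 rfl cF_2184
theorem uF_2520 : Upto T.chkFinName 2520 := upto_add uF_2352 rfl cF_2352
theorem uF_2688 : Upto T.chkFinName 2688 := upto_add uF_2520 rfl cF_2520
theorem uF_2856 : Upto T.chkFinName 2856 := upto_add uF_2688 rfl cF_2688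
theorem uF_3024 : Upto T.chkFinName 3024 := upto_add uF_2856 rfl cF_2856
theorem uF_3192 : Upto T.chkFinName 3192 := upto_add uF_3024 rfl cF_3024
theorem uF_3360 : Upto T.chkFinName 3360 := upto_add uF_3192 rfl cF_3192
theorem uF_3528 : Upto T.chkFinName 3528 := upto_add uF_3360 rfl cF_3360
theorem uF_3696 : Upto T.chkFinName 3696 := upto_add uF_3528 rfl cF_3528
theorem uF_3864 : Upto T.chkFinName 3864 := upto_add uF_3696 rfl cF_3696
theorem uF_4032 : Upto T.chkFinName 4032 := upto_add uF_3864 rfl cF_3864
theorem uF_4116 : Upto T.chkFinName 4116 := upto_add uF_4032 rfl cF_4032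

/-- The certificate is valid. -/
theorem certC : CertC T where
  hNN := by decide +kernel
  hN := by decide +kernel
  hinvK := by decide +kernel
  hinvli := by decide +kernel
  hsubK := by decide +kernel
  hrelK := by decide +kernel
  hrx := by decide +kernel
  hchk := uN_140636
  hfin := uF_4116

end Cfsg.Agent.Lib.Helper28.HeMult.L0
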